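import Cfsg.Agent.SB.Red.Simple

/-!
# S5765: the pair `(Inn K, Aut K)` for a non-abelian simple group `K`; transport of `Row` (helper61)
-/

set_option autoImplicit false

namespace Cfsg.Agent.SB.Red

open Subgroup Cfsg Cfsg.Agent.H786.FC

section inn

variable {K : Type*} [Group K]

theorem conj_conj (α : MulAut K) (x : K) : α * MulAut.conj x * α⁻¹ = MulAut.conj (α x) := by
  ext y
  simp [MulAut.mul_apply, MulAut.conj_apply]

theorem inn_normal : (InnG K).Normal :=
  ⟨by
    rintro _ ⟨x, rfl⟩ α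
    exact ⟨α x, (conj_conj α x).symm⟩⟩

theorem conj_injective (hs : IsSimpleGroup K) (hna : ¬ IsMulCommutative K) :
    Function.Injective (MulAut.conj : K →* MulAut K) := by
  rw [← MonoidHom.ker_eq_bot_iff]
  rcases (inferInstance : (MulAut.conj : K →* MulAut K).ker.Normal).eq_bot_or_eq_top with h | h
  · exact h
  · exfalso
    refine hna ⟨⟨fun a b => ?_⟩⟩
    have h1 : a ∈ (MulAut.conj : K →* MulAut K).ker := h ▸ mem_top a
    have h2 : MulAut.conj a b = b := by rw [MonoidHom.mem_ker.1 h1]; rfl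
    rw [MulAut.conj_apply, mul_inv_eq_iff_eq_mul] at h2
    exact h2

/-- `K ≃ Inn K` -/
noncomputable def innEquiv (hs : IsSimpleGroup K) (hna : ¬ IsMulCommutative K) : K ≃* InnG K :=
  MonoidHom.ofInjective (conj_injective hs hna)

theorem inn_simple (hs : IsSimpleGroup K) (hna : ¬ IsMulCommutative K) : IsSimpleGroup (InnG K) :=
  (innEquiv hs hna).symm.isSimpleGroup

theorem inn_noncomm (hs : IsSimpleGroup K) (hna : ¬ IsMulCommutative K) : ¬ IsMulCommutative (InnG K) := by
  intro h
  refine hna ⟨⟨fun a b => (innEquiv hs hna).injective ?_⟩⟩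
  rw [map_mul, map_mul]
  exact h.is_comm.comm _ _

theorem inn_centralizer (hs : IsSimpleGroup K) (hna : ¬ IsMulCommutative K) :
    centralizer (InnG K : Set (MulAut K)) = ⊥ := by
  rw [eq_bot_iff]
  intro α hα
  rw [mem_bot]
  ext x
  have h1 := mem_centralizer_iff.1 hα (MulAut.conj x) ⟨x, rfl⟩
  have h2 : MulAut.conj (α x) = MulAut.conj x := by
    rw [← conj_conj, ← h1, mul_inv_cancel_right]
  exact conj_injective hs hna h2

end inn

section transport

variable {A B : Type*} [Group A] [Group B] (e : A ≃* B) {T S : Subgroup A}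

theorem mem_map_equiv' {X : Subgroup A} {x : A} : e x ∈ X.map e.toMonoidHom ↔ x ∈ X :=
  mem_map_iff_mem (f := e.toMonoidHom) e.injective

theorem maxInv_map (h : MaxInv T S) : MaxInv (T.map e.toMonoidHom) (S.map e.toMonoidHom) := by
  intro Y h1 h2 h3
  rcases h (Y.comap e.toMonoidHom) (fun x hx => h1 ⟨⟨x, hx.1, rfl⟩, ⟨x, hx.2, rfl⟩⟩)
    (fun x hx => (mem_map_equiv' e).1 (h2 hx)) (fun s hs y hy => by
      have h4 := h3 (e s) ⟨s, hs, rfl⟩ (e y) hy
      rw [← map_inv, ← map_mul, ← map_mul] at h4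
      exact h4) with h4 | h4
  · left
    rw [← h4, map_comap_eq_self_of_surjective e.surjective]
  · right
    intro y hy
    obtain ⟨x, rfl⟩ := e.surjective y
    exact ⟨x, h4 hy, rfl⟩

theorem fitReg_of_map (h : FitReg (T.map e.toMonoidHom) (S.map e.toMonoidHom)) : FitReg T S := by
  obtain ⟨_, ⟨x, hx, rfl⟩, h⟩ := h
  refine ⟨x, hx, fun v hv hvx => ?_⟩
  have h1 : e.subgroupMap S v ∈ fittingSubgroup (S.map e.toMonoidHom) := by
    have h2 := Lib.Cores.map_equiv_fittingSubgroup (e.subgroupMap S)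
    have h3 : e.subgroupMap S v ∈ (fittingSubgroup S).map (e.subgroupMap S).toMonoidHom := ⟨v, hv, rfl⟩
    exact h2 ▸ h3
  have h2 := h _ h1 ⟨_, hvx, by simp⟩
  exact (e.subgroupMap S).injective (h2.trans (map_one _).symm)

theorem seven_of_map (h : Seven (T.map e.toMonoidHom) (S.map e.toMonoidHom)) : Seven T S := by
  obtain ⟨x, hx, h⟩ := h
  choose y hy hyx using hx
  refine ⟨y, hy, fun s hs c c' hi => ?_⟩
  obtain ⟨h1, h2⟩ := h (e s) ⟨s, hs, rfl⟩ c c' fun i => ⟨_, hi i, by
    rw [← hyx, ← hyx]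
    simp⟩
  exact ⟨h1, e.injective (h2.trans (map_one _).symm)⟩

theorem good_of_map (h : Good (T.map e.toMonoidHom) (S.map e.toMonoidHom)) : Good T S :=
  h.imp (fitReg_of_map e) (seven_of_map e)

theorem rowIn_of_equiv (h : RowIn (T.map e.toMonoidHom)) : RowIn T := fun S hS hM =>
  good_of_map e (h _ (Group.isSolvable_of_surjective (f := e.toMonoidHom.subgroupMap S)
    (e.toMonoidHom.subgroupMap_surjective S)) (maxInv_map e hM))

theorem inn_map {K K' : Type*} [Group K] [Group K'] (e : K ≃* K') :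
    (InnG K).map (MulAut.congr e).toMonoidHom = InnG K' := by
  have key : ∀ k : K, MulAut.congr e (MulAut.conj k) = MulAut.conj (e k) := by
    intro k
    ext y
    simp [MulAut.congr]
  ext α
  constructor
  · rintro ⟨_, ⟨k, rfl⟩, rfl⟩
    exact ⟨e k, (key k).symm⟩
  · rintro ⟨k, rfl⟩
    obtain ⟨k, rfl⟩ := e.surjective k
    exact ⟨_, ⟨k, rfl⟩, key k⟩

/-- `Row` is invariant under isomorphisms -/
theorem row_of_equiv {K K' : Type*} [Group K] [Group K'] (e : K ≃* K') (h : Row K') : Row K := by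
  have h1 : RowIn ((InnG K).map (MulAut.congr e).toMonoidHom) := by
    rw [inn_map]
    exact h
  exact rowIn_of_equiv (MulAut.congr e) h1

end transport

end Cfsg.Agent.SB.Red
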