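import Cfsg.Agent.SB.Red.Glue
import Cfsg.Agent.SB.Red.Inn
import Cfsg.Agent.Lib.MinNormalNonabelian
import Cfsg.Prelude.Def_RootSubgroups

/-!
# S5765: the reduction to the rows (helper61)
-/

set_option autoImplicit false

namespace Cfsg.Agent.SB.Red

open Subgroup Cfsg Cfsg.Agent.H786.FC Cfsg.Agent.H233.B3
open Cfsg.Agent.Lib.MinNormal Cfsg.Agent.Lib.MinNormalNonabelian
open scoped Pointwise

universe u v

variable {G : Type u} [Group G] {ι : Type v}

theorem ind_solvable {H L : Subgroup G} (hH : Group.IsSolvable H) : Group.IsSolvable (ind H L) := by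
  let M : Subgroup H := (normalizer (L : Set G)).subgroupOf H
  let φ : M →* ind H L :=
    { toFun := fun m => ⟨L.normalizerMonoidHom ⟨m.1, m.2⟩, m.1, m.1.2, fun s => rfl⟩
      map_one' := by
        apply Subtype.ext
        exact L.normalizerMonoidHom.map_one
      map_mul' := fun a b => by
        apply Subtype.ext
        exact L.normalizerMonoidHom.map_mul ⟨a.1, a.2⟩ ⟨b.1, b.2⟩ }
  have hnorm : ∀ (z : MulAut L) (g : G), (∀ s : L, ((z s : L) : G) = g * s * g⁻¹) → g ∈ normalizer (L : Set G) := by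
    intro z g hz
    rw [mem_normalizer_iff]
    intro s
    constructor
    · intro hs
      rw [← hz ⟨s, hs⟩]
      exact (z ⟨s, hs⟩).2
    · intro hs
      have h1 := hz (z⁻¹ ⟨_, hs⟩)
      rw [MulAut.apply_inv_self] at h1
      have h2 : s = (z⁻¹ ⟨_, hs⟩ : L) := mul_left_cancel (mul_right_cancel h1)
      rw [h2]
      exact (z⁻¹ ⟨_, hs⟩).2
  have hφ : Function.Surjective φ := by
    rintro ⟨z, g, hg, hz⟩
    refine ⟨⟨⟨g, hg⟩, hnorm z g hz⟩, ?_⟩
    apply Subtype.ext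
    ext s
    exact (hz s).symm
  exact Group.isSolvable_of_surjective hφ

variable {H : Subgroup G} [MulAction H ι] {T : ι → Subgroup G} {i₀ : ι} {t : ι → H}

/-- the maximality of `H` seen in `Aut (T i₀)` -/
theorem Setup.dichotomy (h : Setup H T i₀ t) (hmax : IsCoatom H) (Y : Subgroup (MulAut (T i₀)))
    (h1 : H233.B3.ind H (T i₀) ⊓ InnG (T i₀) ≤ Y)
    (h3 : ∀ s ∈ H233.B3.ind H (T i₀), ∀ y ∈ Y, s * y * s⁻¹ ∈ Y) :
    InnG (T i₀) ≤ Y ∨ ∀ s : T i₀, MulAut.conj s ∈ Y → (s : G) ∈ H := by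
  let X : Set G := {x | ∃ g : H, ∃ y : T i₀, MulAut.conj y ∈ Y ∧ x = g * y * (g : G)⁻¹}
  let P : Subgroup G :=
    { carrier := {m | ∃ y : T i₀, MulAut.conj y ∈ Y ∧ ∀ s ∈ T i₀, m * s * m⁻¹ = y * s * (y : G)⁻¹}
      one_mem' := ⟨1, by rw [map_one]; exact one_mem _, fun s _ => by simp⟩
      mul_mem' := by
        rintro a b ⟨y, hy, ha⟩ ⟨z, hz, hb⟩
        refine ⟨y * z, by rw [map_mul]; exact mul_mem hy hz, fun s hs => ?_⟩
        have e1 := ha _ (mul_mem (mul_mem z.2 hs) (inv_mem z.2))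
        rw [Subgroup.coe_mul]
        calc a * b * s * (a * b)⁻¹ = a * (b * s * b⁻¹) * a⁻¹ := by group
          _ = _ := by rw [hb s hs, e1]; group
      inv_mem' := by
        rintro a ⟨y, hy, ha⟩
        refine ⟨y⁻¹, by rw [map_inv]; exact inv_mem hy, fun s hs => ?_⟩
        have e1 := ha _ (mul_mem (mul_mem (inv_mem y.2) hs) y.2)
        rw [Subgroup.coe_inv]
        have e2 : s = a * ((y : G)⁻¹ * s * y) * a⁻¹ := by rw [e1]; group
        calc a⁻¹ * s * a⁻¹⁻¹ = a⁻¹ * (a * ((y : G)⁻¹ * s * y) * a⁻¹) * a⁻¹⁻¹ := by rw [← e2]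
          _ = _ := by group }
  have hXP : closure X ≤ P := by
    rw [closure_le]
    rintro _ ⟨g, y, hy, rfl⟩
    by_cases hg : g • i₀ = i₀
    · obtain ⟨α, hα, hαs⟩ := h.ind g hg
      refine ⟨α y, ?_, fun s _ => by rw [hαs]⟩
      rw [← conj_conj]
      exact h3 α hα _ hy
    · refine ⟨1, by rw [map_one]; exact one_mem _, fun s hs => ?_⟩
      have e1 := h.comm _ _ hg _ (h.mem g i₀ y.2) s hs
      rw [e1, mul_inv_cancel_right]
      simp
  have hHX : ∀ g ∈ H, ∀ m ∈ closure X, g * m * g⁻¹ ∈ closure X := by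
    intro g hg m hm
    have e1 : closure X ≤ (closure X).comap (MulAut.conj g).toMonoidHom := by
      rw [closure_le]
      rintro _ ⟨k, y, hy, rfl⟩
      refine subset_closure ⟨⟨g, hg⟩ * k, y, hy, ?_⟩
      change g * (k * y * (k : G)⁻¹) * g⁻¹ = g * k * y * (g * k)⁻¹
      group
    exact e1 hm
  by_cases hle : closure X ≤ H
  · right
    intro s hs
    exact hle (subset_closure ⟨1, s, hs, by simp⟩)
  · left
    rintro _ ⟨l, rfl⟩
    have htop : H ⊔ closure X = ⊤ := hmax.2 _ (left_lt_sup.2 hle)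
    have e1 : ((H ⊔ closure X : Subgroup G) : Set G) = (H : Set G) * (closure X : Set G) :=
      coe_mul_of_left_le_normalizer_right H (closure X) fun g hg => mem_normalizer_of_inv hHX hg
    have e2 : (l : G) ∈ (H : Set G) * (closure X : Set G) := by
      rw [← e1, htop]
      exact mem_top _
    obtain ⟨g, hg, m, hm, hgm⟩ := Set.mem_mul.1 e2
    obtain ⟨y, hy, hym⟩ := hXP hm
    have e3 : MulAut.conj (l * y⁻¹) ∈ H233.B3.ind H (T i₀) := by
      refine ⟨g, hg, fun s => ?_⟩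
      have e4 := hym _ (mul_mem (mul_mem (inv_mem y.2) s.2) y.2)
      rw [MulAut.conj_apply]
      simp only [Subgroup.coe_mul, Subgroup.coe_inv]
      calc (l : G) * (y : G)⁻¹ * s * ((l : G) * (y : G)⁻¹)⁻¹ = l * ((y : G)⁻¹ * s * y) * (l : G)⁻¹ := by group
        _ = g * (m * ((y : G)⁻¹ * s * y) * m⁻¹) * g⁻¹ := by rw [← hgm]; group
        _ = g * s * g⁻¹ := by rw [e4]; group
    have e5 := mul_mem (h1 ⟨e3, _, rfl⟩) hy
    rwa [← map_mul, inv_mul_cancel_right] at e5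

theorem Setup.maxInv (h : Setup H T i₀ t) (hmax : IsCoatom H) : MaxInv (InnG (T i₀)) (H233.B3.ind H (T i₀)) := by
  intro Y h1 h2 h3
  rcases h.dichotomy hmax Y h1 h3 with h4 | h4
  · exact Or.inl (le_antisymm h2 h4)
  · right
    intro y hy
    obtain ⟨s, rfl⟩ := h2 hy
    exact ⟨s, h4 s hy, fun _ => rfl⟩

/-- **The gluing theorem.** -/
theorem Setup.five [Finite G] [Finite ι] (h : Setup H T i₀ t) (hmax : IsCoatom H) (hH : Group.IsSolvable H)
    (hs : IsSimpleGroup (T i₀)) (hna : ¬ IsMulCommutative (T i₀)) (hrow : Row (T i₀)) : Five ⊤ H := by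
  have hS : Group.IsSolvable (H233.B3.ind H (T i₀)) := ind_solvable hH
  have hM := h.maxInv hmax
  rcases hrow _ hS hM with hF | h7
  swap
  · exact h.five_of_seven hH h7
  by_cases hfix : ∀ v : H, v ∈ fittingSubgroup H → ∀ i : ι, v • i = i
  · exact h.five_of_fitReg hH hfix hF
  push Not at hfix
  obtain ⟨v, hv, i, hi⟩ := hfix
  have hFn : (fittingSubgroup H).Normal := Lib.Cores.fittingSubgroup_normal
  have hf : (t i)⁻¹ * v * t i ∈ fittingSubgroup H := by simpa using hFn.conj_mem v hv (t i)⁻¹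
  have hf0 : ((t i)⁻¹ * v * t i) • i₀ ≠ i₀ := by
    rw [mul_smul, mul_smul, h.ht, Ne, inv_smul_eq_iff, h.ht]
    exact hi
  generalize (t i)⁻¹ * v * t i = f at hf hf0
  have hRH : ∀ s : T i₀, MulAut.conj s ∈ H233.B3.ind H (T i₀) → (s : G) ∈ H := by
    rcases h.dichotomy hmax (H233.B3.ind H (T i₀) ⊓ InnG (T i₀)) le_rfl (fun s hs y hy => mem_inf.2
      ⟨mul_mem (mul_mem hs (mem_inf.1 hy).1) (inv_mem hs), inn_normal.conj_mem y (mem_inf.1 hy).2 s⟩) with h1 | h1
    · exact absurd (Group.isSolvable_of_isSolvable_injective (f := inclusion (h1.trans inf_le_left))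
        (inclusion_injective _)) (not_solvable (inn_simple hs hna) (inn_noncomm hs hna))
    · exact fun s hs => h1 s ⟨hs, s, rfl⟩
  refine h.five_of_seven hH (seven_of_fitReg inn_normal hS hF (frattini_ne_bot inn_normal (inn_simple hs hna)
    (inn_noncomm hs hna) (inn_centralizer hs hna) hS hM ?_))
  rintro ⟨_, hy⟩ ⟨r, rfl⟩
  have hw : (⟨r, hRH r hy⟩ : H) * f * (⟨r, hRH r hy⟩ : H)⁻¹ * f⁻¹ ∈ fittingSubgroup H :=
    mul_mem (hFn.conj_mem f hf _) (inv_mem hf)
  refine ind_fitting hy hw fun s => ?_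
  have e1 := h.comm _ _ hf0 _ (h.mem f i₀ (inv_mem r.2)) s s.2
  rw [MulAut.conj_apply]
  simp only [Subgroup.coe_mul, Subgroup.coe_inv]
  calc (r : G) * s * (r : G)⁻¹
      = r * (s * (f * (r : G)⁻¹ * (f : G)⁻¹)) * (f * (r : G)⁻¹ * (f : G)⁻¹)⁻¹ * (r : G)⁻¹ := by group
    _ = r * (f * (r : G)⁻¹ * (f : G)⁻¹) * s * (f * (r : G)⁻¹ * (f : G)⁻¹)⁻¹ * (r : G)⁻¹ := by rw [← e1]; group
    _ = _ := by group

/-- the reduction, elementwise form -/
theorem five_main (hrow : ∀ (K : Type u) [Group K] [Finite K] [IsSimpleGroup K], ¬ IsMulCommutative K → Row K)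
    [Finite G] (hR : solvableRadical G = ⊥) (H : Subgroup G) (hmax : IsCoatom H) (hH : Group.IsSolvable H) :
    Five ⊤ H := by
  have hsol : ∀ N : Subgroup G, N.Normal → Group.IsSolvable N → N = ⊥ := by
    intro N h1 h2
    rw [eq_bot_iff, ← hR]
    exact le_sSup ⟨h1, h2⟩
  have hfin : {N : Subgroup G | N.Normal ∧ N ≠ ⊥}.Finite := Set.toFinite _
  have hne : {N : Subgroup G | N.Normal ∧ N ≠ ⊥}.Nonempty :=
    ⟨⊤, inferInstance, fun h => hmax.1 (eq_top_iff.2 (h.le.trans bot_le))⟩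
  obtain ⟨N, ⟨hNn, hN0⟩, hNmin⟩ := hfin.exists_minimal hne
  have hmin : ∀ M : Subgroup G, M.Normal → M ≤ N → M = ⊥ ∨ M = N := by
    intro M hM hMN
    by_cases h0 : M = ⊥
    · exact Or.inl h0
    · exact Or.inr (le_antisymm hMN (hNmin ⟨hM, h0⟩ hMN))
  have hna : ¬ ∀ x ∈ N, ∀ y ∈ N, Commute x y := by
    intro hab
    exact hN0 (hsol N hNn (Group.isSolvable_of_comm fun a b => Subtype.ext (hab a a.2 b b.2).eq))
  have hNH : ¬ N ≤ H := fun hle =>
    hN0 (hsol N hNn (Group.isSolvable_of_isSolvable_injective (f := inclusion hle) (inclusion_injective _)))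
  have hdec : ∀ g : G, ∃ h ∈ H, ∃ n ∈ N, h * n = g := by
    intro g
    have e2 : g ∈ (H : Set G) * (N : Set G) := by
      rw [← mul_normal, hmax.2 _ (left_lt_sup.2 hNH)]
      exact mem_top _
    exact Set.mem_mul.1 e2
  have hC : centralizer (N : Set G) = ⊥ := by
    apply hsol _ inferInstance
    have hZ : N ⊓ centralizer (N : Set G) = ⊥ := by
      rcases hmin (N ⊓ centralizer (N : Set G)) inferInstance inf_le_left with h | h
      · exact h
      · exfalso
        apply hna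
        intro x hx y hy
        rw [← h] at hx
        exact (mem_centralizer_iff.1 hx.2 y hy).symm
    have hq : Group.IsSolvable (G ⧸ N) := by
      refine Group.isSolvable_of_surjective (f := (QuotientGroup.mk' N).comp H.subtype) fun y => ?_
      obtain ⟨g, rfl⟩ := QuotientGroup.mk_surjective y
      obtain ⟨h, hh, n, hn, rfl⟩ := hdec g
      refine ⟨⟨h, hh⟩, QuotientGroup.eq.2 ?_⟩
      simpa using hn
    refine Group.isSolvable_of_isSolvable_injective
      (f := (QuotientGroup.mk' N).comp (centralizer (N : Set G)).subtype) ?_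
    rw [← MonoidHom.ker_eq_bot_iff, eq_bot_iff]
    intro c hc
    have h1 : (c : G) ∈ N ⊓ centralizer (N : Set G) := ⟨(QuotientGroup.eq_one_iff _).1 hc, c.2⟩
    rw [hZ, mem_bot] at h1
    exact mem_bot.2 (Subtype.ext h1)
  obtain ⟨⟨T₀, hT₀⟩, s2, s3, s4, s5, s6⟩ := nonabelian_structure N hmin hna
  let T : minSet N → Subgroup G := fun i => (i : Subgroup G)
  let _ : MulAction H (minSet N) :=
    { smul := fun g i => ⟨_, map_conj_mem_minSet i.2 (g : G)⟩
      one_smul := fun i => Subtype.ext (map_conj_one _)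
      mul_smul := fun g k i => Subtype.ext (map_conj_map_conj _ _ _).symm }
  have htr : ∀ i : minSet N, ∃ g : H, g • (⟨T₀, hT₀⟩ : minSet N) = i := by
    intro i
    obtain ⟨g, hg⟩ := s6 _ hT₀ _ i.2
    obtain ⟨h, hh, n, hn, rfl⟩ := hdec g
    refine ⟨⟨h, hh⟩, Subtype.ext ?_⟩
    have e : T₀.map (MulAut.conj n).toMonoidHom = T₀ := mem_normalizer_iff_map_conj_eq.1 (hT₀.2.2.1 hn)
    rw [hg, ← map_conj_map_conj, e]
    rfl
  choose t ht using htr
  have hset : Setup H T ⟨T₀, hT₀⟩ t := by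
    refine ⟨fun i j hij x hx y hy => ?_, fun _ _ => rfl, ht, fun g _ hg => ?_⟩
    · exact (commute_of_mem s2 (fun S hS => hS.2.2.1) (fun S hS => hS.1) i.2 j.2
        (fun h => hij (Subtype.ext h)) hx hy).eq
    · have h1 : N ≤ centralizer ({g} : Set G) := by
        rw [← s3]
        refine sSup_le fun i hi s hs => ?_
        rw [mem_centralizer_singleton_iff]
        exact (mul_inv_eq_iff_eq_mul.1 (hg ⟨i, hi⟩ s hs)).symm
      rw [← mem_bot, ← hC, mem_centralizer_iff]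
      exact fun s hs => mem_centralizer_singleton_iff.1 (h1 hs)
  have hs : IsSimpleGroup T₀ := s4 _ hT₀
  have hnc : ¬ IsMulCommutative T₀ := by
    intro hc
    obtain ⟨z, hz⟩ := exists_ne (1 : T₀)
    apply hz
    apply Subtype.ext
    exact s5 _ hT₀ z z.2 fun t ht => congrArg Subtype.val (hc.is_comm.comm z ⟨t, ht⟩)
  exact hset.five hmax hH hs hnc (hrow T₀ hnc)

/-- the rows in any universe -/
theorem row_lift (hrow : ∀ (K : Type) [Group K] [Finite K] [IsSimpleGroup K], ¬ IsMulCommutative K → Row K)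
    (K : Type u) [Group K] [Finite K] [IsSimpleGroup K] (hK : ¬ IsMulCommutative K) : Row K := by
  obtain ⟨K', _, ⟨e⟩⟩ := exists_type_zero_model K
  have : Finite K' := Finite.of_equiv K e.symm.toEquiv
  have : IsSimpleGroup K' := e.isSimpleGroup
  refine row_of_equiv e.symm (hrow K' fun h => hK ⟨⟨fun a b => e.symm.injective ?_⟩⟩)
  rw [map_mul, map_mul]
  exact h.is_comm.comm _ _

/-- **S5765 from the rows.** -/
theorem main (hrow : ∀ (K : Type) [Group K] [Finite K] [IsSimpleGroup K], ¬ IsMulCommutative K → Row K)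
    {G : Type*} [Group G] [Finite G] (hR : solvableRadical G = ⊥) (H : Subgroup G) (hmax : IsCoatom H)
    (hH : Group.IsSolvable H) :
    ∃ x₁ x₂ x₃ x₄ : G, H ⊓ H.map (MulAut.conj x₁).toMonoidHom ⊓ H.map (MulAut.conj x₂).toMonoidHom ⊓
      H.map (MulAut.conj x₃).toMonoidHom ⊓ H.map (MulAut.conj x₄).toMonoidHom = ⊥ := by
  obtain ⟨x, -, hx⟩ := five_main (fun K _ _ _ hK => row_lift hrow K hK) hR H hmax hH
  refine ⟨x 0, x 1, x 2, x 3, ?_⟩
  rw [eq_bot_iff]
  rintro s ⟨⟨⟨⟨hs, h0⟩, h1⟩, h2⟩, h3⟩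
  have conv : ∀ i, s ∈ H.map (MulAut.conj (x i)).toMonoidHom → (x i)⁻¹ * s * x i ∈ H := by
    rintro i ⟨y, hy, rfl⟩
    have e : (x i)⁻¹ * (x i * y * (x i)⁻¹) * x i = y := by group
    change (x i)⁻¹ * (x i * y * (x i)⁻¹) * x i ∈ H
    rwa [e]
  rw [mem_bot]
  refine hx s hs fun i => ?_
  fin_cases i
  exacts [conv 0 h0, conv 1 h1, conv 2 h2, conv 3 h3]

end Cfsg.Agent.SB.Red
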