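import Cfsg.Agent.S4374

/-!
# S5765, reduction: a solvable permutation group has an asymmetric colouring with seven colours (helper61)

S4374 is applied to the wreath product of `GL(2,2) = S₃` with the permutation group, acting on `ι → F₂²`.
-/

set_option autoImplicit false

namespace Cfsg.Agent.SB.Red

universe u v

/-- the four-group -/
abbrev U4 : Type := ZMod 2 × ZMod 2

/-- the three nonzero vectors -/
def enc (u : U4) : Option (Fin 3) :=
  if u = (0, 0) then none else if u = (1, 0) then some 0 else if u = (0, 1) then some 1 else some 2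

def dec : Option (Fin 3) → U4
  | none => (0, 0)
  | some j => if j = 0 then (1, 0) else if j = 1 then (0, 1) else (1, 1)

/-- `S₃` permutes the nonzero vectors -/
def act (σ : Equiv.Perm (Fin 3)) (u : U4) : U4 := dec ((enc u).map σ)

theorem act_one : ∀ u : U4, act 1 u = u := by decide

theorem act_mul : ∀ (σ τ : Equiv.Perm (Fin 3)) (u : U4), act (σ * τ) u = act σ (act τ u) := by decide +kernel

theorem act_zero : ∀ σ : Equiv.Perm (Fin 3), act σ 0 = 0 := by decide +kernel

theorem act_add : ∀ (σ : Equiv.Perm (Fin 3)) (u w : U4), act σ (u + w) = act σ u + act σ w := by decide +kernel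

theorem act_ne : ∀ (σ : Equiv.Perm (Fin 3)) (u : U4), u ≠ 0 → act σ u ≠ 0 := by decide +kernel

theorem act_faith : ∀ σ : Equiv.Perm (Fin 3), (∀ u : U4, act σ u = u) → σ = 1 := by decide +kernel

theorem act_irr : ∀ a u : U4, a ≠ 0 → ∃ σ τ : Equiv.Perm (Fin 3), u = (act σ a - a) + (act τ a - a) := by
  decide +kernel

/-- spanning triples -/
def sp (a b c : U4) : Prop := (a ≠ 0 ∧ b ≠ 0 ∧ a ≠ b) ∨ (a ≠ 0 ∧ c ≠ 0 ∧ a ≠ c) ∨ (b ≠ 0 ∧ c ≠ 0 ∧ b ≠ c)

instance decSp (a b c : U4) : Decidable (sp a b c) := by unfold sp; infer_instance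

/-- the linear relation of a spanning triple -/
def col (a b c : U4) : Fin 7 :=
  if a = 0 then 0 else if b = 0 then 1 else if c = 0 then 2 else if a = b then 3 else if a = c then 4 else
    if b = c then 5 else 6

theorem not_sp : ∀ a b c : U4, ¬ sp a b c →
    ∃ σ : Equiv.Perm (Fin 3), σ ≠ 1 ∧ act σ a = a ∧ act σ b = b ∧ act σ c = c := by decide +kernel

theorem sp_col : ∀ a b c a' b' c' : U4, sp a b c → sp a' b' c' → col a b c = col a' b' c' →
    ∃ σ : Equiv.Perm (Fin 3), act σ a = a' ∧ act σ b = b' ∧ act σ c = c' := by decide +kernel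

theorem solvable_pi (ι : Type v) : Group.IsSolvable (ι → Equiv.Perm (Fin 3)) := by
  have hc : ∀ a b : Equiv.Perm (Fin 3), Equiv.Perm.sign a = 1 → Equiv.Perm.sign b = 1 → a * b = b * a := by
    decide +kernel
  have h1 : Group.IsSolvable (ι → alternatingGroup (Fin 3)) :=
    Group.isSolvable_of_comm fun a b => funext fun i => Subtype.ext (hc _ _ (a i).2 (b i).2)
  have h2 : Group.IsSolvable (ι → ℤˣ) := inferInstance
  refine Group.isSolvable_of_ker_le_range ((alternatingGroup (Fin 3)).subtype.compLeft ι)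
    ((Equiv.Perm.sign : Equiv.Perm (Fin 3) →* ℤˣ).compLeft ι) ?_
  intro f hf
  rw [MonoidHom.mem_ker] at hf
  exact ⟨fun i => ⟨f i, congrFun hf i⟩, rfl⟩

/-- the faithful case -/
theorem colour_faithful {P : Type u} [Group P] [Finite P] (hP : Group.IsSolvable P) {ι : Type v} [Finite ι]
    [MulAction P ι] (hf : ∀ g : P, (∀ i : ι, g • i = i) → g = 1) :
    ∃ χ : ι → Fin 7, ∀ g : P, (∀ i, χ (g • i) = χ i) → g = 1 := by
  classical
  have _ : Fintype ι := Fintype.ofFinite ι
  let W := (ι → Equiv.Perm (Fin 3)) ⋊[mulAutArrow] P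
  have hW : Group.IsSolvable W := by
    have := solvable_pi ι
    refine Group.isSolvable_of_ker_le_range (SemidirectProduct.inl (N := ι → Equiv.Perm (Fin 3)) (G := P)
      (φ := mulAutArrow)) SemidirectProduct.rightHom ?_
    rw [SemidirectProduct.range_inl_eq_ker_rightHom]
  have hfin : Finite W := Finite.of_equiv _ (SemidirectProduct.equivProd (N := ι → Equiv.Perm (Fin 3)) (G := P)
    (φ := mulAutArrow)).symm
  let inst : DistribMulAction W (ι → U4) :=
    { smul := fun w v i => act (w.left i) (v (w.right⁻¹ • i))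
      one_smul := fun v => funext fun i => by
        change act 1 (v ((1 : P)⁻¹ • i)) = v i
        rw [act_one, inv_one, one_smul]
      mul_smul := fun w w' v => funext fun i => by
        change act (w.left i * w'.left (w.right⁻¹ • i)) (v ((w.right * w'.right)⁻¹ • i)) =
          act (w.left i) (act (w'.left (w.right⁻¹ • i)) (v (w'.right⁻¹ • w.right⁻¹ • i)))
        rw [act_mul, mul_inv_rev, mul_smul]
      smul_zero := fun w => funext fun i => act_zero _
      smul_add := fun w v v' => funext fun i => act_add _ _ _ }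
  have hsm : ∀ (w : W) (v : ι → U4) (i : ι), (w • v) i = act (w.left i) (v (w.right⁻¹ • i)) := fun _ _ _ => rfl
  have htriv : ∀ w : W, (∀ v : ι → U4, w • v = v) → w = 1 := by
    intro w hw
    have h1 : w.right = 1 := by
      apply hf
      intro j
      by_contra hj
      have h2 := congrFun (hw (Pi.single j (1, 0))) (w.right • j)
      rw [hsm, inv_smul_smul, Pi.single_eq_same, Pi.single_eq_of_ne hj] at h2
      exact act_ne _ _ (by decide) h2
    apply SemidirectProduct.ext
    · funext i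
      apply act_faith
      intro u
      have h2 := congrFun (hw (fun _ => u)) i
      rwa [hsm] at h2
    · exact h1
  have hfaith : FaithfulSMul W (ι → U4) := ⟨fun {a b} h => by
    have h1 : b⁻¹ * a = 1 := htriv _ fun v => by rw [mul_smul, h v, inv_smul_smul]
    exact (inv_mul_eq_one.1 h1).symm⟩
  -- a single coordinate
  have hsingle : ∀ (i : ι) (σ : Equiv.Perm (Fin 3)) (v : ι → U4),
      (⟨Pi.mulSingle i σ, 1⟩ : W) • v = v + Pi.single i (act σ (v i) - v i) := by
    intro i σ v
    funext j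
    rw [hsm]
    change act (Pi.mulSingle (M := fun _ => Equiv.Perm (Fin 3)) i σ j) (v ((1 : P)⁻¹ • j)) = _
    rw [inv_one, one_smul, Pi.add_apply]
    by_cases hj : j = i
    · subst hj
      rw [Pi.mulSingle_eq_same, Pi.single_eq_same, add_sub_cancel]
    · rw [Pi.mulSingle_eq_of_ne hj, Pi.single_eq_of_ne hj, act_one, add_zero]
  obtain ⟨v₁, v₂, v₃, hv⟩ := Cfsg.Agent.S4374.result (A := W) (V := ι → U4) hW (by
    intro X hX
    let J : Set ι := {i | ∃ v ∈ X, v i ≠ 0}
    have hJ : ∀ i ∈ J, ∀ u : U4, Pi.single i u ∈ X := by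
      rintro i ⟨v, hv, hvi⟩ u
      obtain ⟨σ, τ, rfl⟩ := act_irr (v i) u hvi
      have key : ∀ ρ : Equiv.Perm (Fin 3), Pi.single i (act ρ (v i) - v i) ∈ X := by
        intro ρ
        have h1 := X.sub_mem (hX ⟨Pi.mulSingle i ρ, 1⟩ v hv) hv
        rwa [hsingle, add_sub_cancel_left] at h1
      rw [Pi.single_add]
      exact X.add_mem (key σ) (key τ)
    let Y : AddSubgroup (ι → U4) :=
      { carrier := {v | ∀ i ∈ J, v i = 0}
        zero_mem' := fun _ _ => rfl
        add_mem' := fun {a b} ha hb i hi => by rw [Pi.add_apply, ha i hi, hb i hi, add_zero]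
        neg_mem' := fun {a} ha i hi => by rw [Pi.neg_apply, ha i hi, neg_zero] }
    refine ⟨Y, ?_, ?_, ?_⟩
    · intro w y hy i hi
      rw [hsm, hy _ ?_, act_zero]
      obtain ⟨v, hv, hvi⟩ := hi
      refine ⟨w⁻¹ • v, hX _ v hv, ?_⟩
      rw [hsm]
      apply act_ne
      change v (w.right⁻¹⁻¹ • w.right⁻¹ • i) ≠ 0
      rwa [inv_inv, smul_inv_smul]
    · rw [eq_bot_iff]
      rintro v ⟨h1, h2⟩
      rw [AddSubgroup.mem_bot]
      funext i
      by_contra hi
      exact hi (h2 i ⟨v, h1, hi⟩)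
    · rw [eq_top_iff]
      intro v _
      rw [← Finset.univ_sum_single v]
      refine AddSubgroup.sum_mem _ fun i _ => ?_
      by_cases hi : i ∈ J
      · exact AddSubgroup.mem_sup_left (hJ i hi _)
      · refine AddSubgroup.mem_sup_right fun j hj => ?_
        have hji : j ≠ i := fun h => hi (h ▸ hj)
        exact Pi.single_eq_of_ne hji _)
  have hsp : ∀ i, sp (v₁ i) (v₂ i) (v₃ i) := by
    intro i
    by_contra hn
    obtain ⟨σ, hσ, h1, h2, h3⟩ := not_sp _ _ _ hn
    have h4 := hv ⟨Pi.mulSingle i σ, 1⟩ (by rw [hsingle, h1]; simp) (by rw [hsingle, h2]; simp)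
      (by rw [hsingle, h3]; simp)
    have h5 := congrFun (congrArg SemidirectProduct.left h4) i
    change Pi.mulSingle (M := fun _ => Equiv.Perm (Fin 3)) i σ i = 1 at h5
    rw [Pi.mulSingle_eq_same] at h5
    exact hσ h5
  refine ⟨fun i => col (v₁ i) (v₂ i) (v₃ i), fun g hg => ?_⟩
  have h1 : ∀ i, ∃ σ : Equiv.Perm (Fin 3), act σ (v₁ (g⁻¹ • i)) = v₁ i ∧ act σ (v₂ (g⁻¹ • i)) = v₂ i ∧
      act σ (v₃ (g⁻¹ • i)) = v₃ i := by
    intro i
    apply sp_col _ _ _ _ _ _ (hsp _) (hsp _)
    have h2 := hg (g⁻¹ • i)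
    rw [smul_inv_smul] at h2
    exact h2.symm
  choose σ hσ using h1
  have h2 := hv ⟨σ, g⟩ (funext fun i => (hσ i).1) (funext fun i => (hσ i).2.1) (funext fun i => (hσ i).2.2)
  exact congrArg SemidirectProduct.right h2

/-- **Seven colours.** -/
theorem colour7 {P : Type u} [Group P] (hP : Group.IsSolvable P) {ι : Type v} [Finite ι] [MulAction P ι] :
    ∃ χ : ι → Fin 7, ∀ g : P, (∀ i, χ (g • i) = χ i) → ∀ i : ι, g • i = i := by
  let Q := (MulAction.toPermHom P ι).range
  have hQ : Group.IsSolvable Q :=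
    Group.isSolvable_of_surjective (f := (MulAction.toPermHom P ι).rangeRestrict)
      (MulAction.toPermHom P ι).rangeRestrict_surjective
  obtain ⟨χ, hχ⟩ := colour_faithful (P := Q) hQ (ι := ι) fun g hg => Subtype.ext (Equiv.ext hg)
  refine ⟨χ, fun g hg i => ?_⟩
  have h1 := hχ ⟨MulAction.toPermHom P ι g, g, rfl⟩ hg
  have h2 : MulAction.toPermHom P ι g = 1 := congrArg Subtype.val h1
  exact congrArg (fun f : Equiv.Perm ι => f i) h2

end Cfsg.Agent.SB.Red
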