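import Cfsg.Agent.SB.Basic
import Cfsg.Agent.SB.Red.Colour
import Cfsg.Agent.H233.B3.Glue

/-!
# S5765, reduction: gluing over the factors of the socle (helper61)

`Setup H T i₀ t` : the subgroup `H` permutes the pairwise commuting subgroups `T i` transitively, `t i` carries `T i₀`
to `T i`, and only the identity of `H` centralises all the `T i`.
-/

set_option autoImplicit false

namespace Cfsg.Agent.SB.Red

open Subgroup Cfsg Cfsg.Agent.H786.FC Cfsg.Agent.H233.B3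

universe u v

variable {G : Type u} [Group G] {ι : Type v}

/-- the setting of the gluing lemmas -/
structure Setup (H : Subgroup G) [MulAction H ι] (T : ι → Subgroup G) (i₀ : ι) (t : ι → H) : Prop where
  comm : ∀ i j, i ≠ j → ∀ x ∈ T i, ∀ y ∈ T j, x * y = y * x
  smul : ∀ (g : H) i, T (g • i) = (T i).map (MulAut.conj (g : G)).toMonoidHom
  ht : ∀ i, t i • i₀ = i
  faith : ∀ g ∈ H, (∀ i, ∀ s ∈ T i, g * s * g⁻¹ = s) → g = 1

variable {H : Subgroup G} [MulAction H ι] {T : ι → Subgroup G} {i₀ : ι} {t : ι → H}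

theorem Setup.mem (h : Setup H T i₀ t) (g : H) (i : ι) {s : G} (hs : s ∈ T i) :
    (g : G) * s * (g : G)⁻¹ ∈ T (g • i) := by
  rw [h.smul]
  exact ⟨s, hs, rfl⟩

theorem Setup.fwd (h : Setup H T i₀ t) (i : ι) {s : G} (hs : s ∈ T i₀) : (t i : G) * s * (t i : G)⁻¹ ∈ T i := by
  have h1 := h.mem (t i) i₀ hs
  rwa [h.ht] at h1

theorem Setup.back (h : Setup H T i₀ t) (i : ι) {s : G} (hs : s ∈ T i) : (t i : G)⁻¹ * s * (t i : G) ∈ T i₀ := by
  have h1 := h.mem (t i)⁻¹ i hs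
  have h2 : (t i)⁻¹ • i = i₀ := by rw [inv_smul_eq_iff, h.ht]
  rw [h2] at h1
  simpa using h1

/-- the automorphism of `T i₀` induced by an element fixing `i₀` -/
theorem Setup.ind (h : Setup H T i₀ t) (g : H) (hg : g • i₀ = i₀) :
    ∃ y ∈ ind H (T i₀), ∀ s : T i₀, ((y s : T i₀) : G) = g * s * (g : G)⁻¹ := by
  refine exists_ind g.2 ?_
  rw [← h.smul, hg]

theorem Setup.fix (h : Setup H T i₀ t) (g : H) (i : ι) : ((t (g • i))⁻¹ * g * t i) • i₀ = i₀ := by
  rw [mul_smul, mul_smul, h.ht, inv_smul_eq_iff, h.ht]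

/-- an element acting on every factor as prescribed -/
theorem Setup.lift [Finite ι] (h : Setup H T i₀ t) (x : ι → T i₀) :
    ∃ n : G, ∀ (g : H), n⁻¹ * g * n ∈ H → ∀ i, ∀ y : MulAut (T i₀),
      (∀ s : T i₀, ((y s : T i₀) : G) = (((t (g • i))⁻¹ * g * t i : H) : G) * s *
        (((t (g • i))⁻¹ * g * t i : H) : G)⁻¹) →
      (MulAut.conj (x (g • i)))⁻¹ * y * MulAut.conj (x i) ∈ H233.B3.ind H (T i₀) := by
  obtain ⟨n, -, hn⟩ := exists_prod T h.comm (fun i => ⟨_, h.fwd i (x i).2⟩)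
  have hn1 : ∀ i, ∀ s ∈ T i₀, n * ((t i : G) * s * (t i : G)⁻¹) * n⁻¹ =
      (t i : G) * ((x i : G) * s * (x i : G)⁻¹) * (t i : G)⁻¹ := by
    intro i s hs
    rw [hn i _ (h.fwd i hs)]
    simp only
    group
  have hn2 : ∀ i, ∀ s ∈ T i₀, n⁻¹ * ((t i : G) * s * (t i : G)⁻¹) * n =
      (t i : G) * ((x i : G)⁻¹ * s * (x i : G)) * (t i : G)⁻¹ := by
    intro i s hs
    have h1 := hn1 i _ (mul_mem (mul_mem (inv_mem (x i).2) hs) (x i).2)
    have h2 : (t i : G) * s * (t i : G)⁻¹ = n * ((t i : G) * ((x i : G)⁻¹ * s * (x i : G)) * (t i : G)⁻¹) * n⁻¹ := by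
      rw [h1]; group
    rw [h2]; group
  refine ⟨n, fun g hg i y hy => ?_⟩
  set j := g • i with hj
  refine ⟨(t j : G)⁻¹ * (n⁻¹ * g * n) * (t i : G), mul_mem (mul_mem (inv_mem (t j).2) hg) (t i).2, fun s => ?_⟩
  have e1 : (((MulAut.conj (x j))⁻¹ * y * MulAut.conj (x i)) s : T i₀) = (x j)⁻¹ * y (x i * s * (x i)⁻¹) * x j := by
    simp [MulAut.mul_apply, MulAut.conj_apply]
  have e2 := hy (x i * s * (x i)⁻¹)
  simp only [Subgroup.coe_mul, Subgroup.coe_inv] at e2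
  have e3 := hn1 i _ s.2
  have e4 := hn2 j _ (y (x i * s * (x i)⁻¹)).2
  rw [e1, Subgroup.coe_mul, Subgroup.coe_mul, Subgroup.coe_inv]
  calc (x j : G)⁻¹ * (y (x i * s * (x i)⁻¹) : T i₀) * (x j : G)
      = (t j : G)⁻¹ * ((t j : G) * ((x j : G)⁻¹ * (y (x i * s * (x i)⁻¹) : T i₀) * (x j : G)) * (t j : G)⁻¹) *
          (t j : G) := by group
    _ = (t j : G)⁻¹ * (n⁻¹ * ((t j : G) * (y (x i * s * (x i)⁻¹) : T i₀) * (t j : G)⁻¹) * n) * (t j : G) := by
      rw [e4]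
    _ = (t j : G)⁻¹ * (n⁻¹ * (g * ((t i : G) * ((x i : G) * s * (x i : G)⁻¹) * (t i : G)⁻¹) * (g : G)⁻¹) * n) *
          (t j : G) := by rw [e2]; group
    _ = (t j : G)⁻¹ * (n⁻¹ * (g * (n * ((t i : G) * s * (t i : G)⁻¹) * n⁻¹) * (g : G)⁻¹) * n) * (t j : G) := by
      rw [e3]
    _ = _ := by group

/-- an element fixing all the factors and inducing the identity on each of them is trivial -/
theorem Setup.eq_one (h : Setup H T i₀ t) (g : H) (hfix : ∀ i : ι, g • i = i)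
    (h1 : ∀ i, ∀ s ∈ T i₀, (((t (g • i))⁻¹ * g * t i : H) : G) * s * (((t (g • i))⁻¹ * g * t i : H) : G)⁻¹ = s) :
    (g : G) = 1 := by
  apply h.faith g g.2
  intro i s hs
  have h2 := h1 i _ (h.back i hs)
  rw [hfix i] at h2
  simp only [Subgroup.coe_mul, Subgroup.coe_inv] at h2
  have h3 : (t i : G)⁻¹ * ((g : G) * s * (g : G)⁻¹) * (t i : G) = (t i : G)⁻¹ * s * (t i : G) := by
    rw [← h2]; group
  exact mul_left_cancel (mul_right_cancel h3)

/-- **Gluing, the case `Seven`.** -/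
theorem Setup.five_of_seven [Finite ι] (h : Setup H T i₀ t) (hH : Group.IsSolvable H)
    (h7 : Seven (InnG (T i₀)) (H233.B3.ind H (T i₀))) : Five ⊤ H := by
  obtain ⟨χ, hχ⟩ := colour7 (P := H) hH (ι := ι)
  obtain ⟨x, hx, h7⟩ := h7
  choose a ha using fun c k => hx c k
  choose n hn using fun k : Fin 4 => h.lift fun i => a (χ i) k
  refine ⟨n, fun _ => mem_top _, fun g hg hk => ?_⟩
  have main : ∀ i, χ ((⟨g, hg⟩ : H) • i) = χ i ∧ ∀ s ∈ T i₀,
      (((t ((⟨g, hg⟩ : H) • i))⁻¹ * ⟨g, hg⟩ * t i : H) : G) * s *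
        (((t ((⟨g, hg⟩ : H) • i))⁻¹ * ⟨g, hg⟩ * t i : H) : G)⁻¹ = s := by
    intro i
    obtain ⟨y, hy, hys⟩ := h.ind _ (h.fix ⟨g, hg⟩ i)
    obtain ⟨c1, c2⟩ := h7 y hy (χ ((⟨g, hg⟩ : H) • i)) (χ i) fun k => by
      have h1 := hn k ⟨g, hg⟩ (hk k) i y hys
      rwa [ha, ha] at h1
    refine ⟨c1, fun s hs => ?_⟩
    have h2 := hys ⟨s, hs⟩
    rw [c2] at h2
    exact h2.symm
  exact h.eq_one ⟨g, hg⟩ (hχ _ fun i => (main i).1) fun i => (main i).2

/-- the automorphisms induced by a normal nilpotent subgroup lie in the Fitting subgroup -/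
theorem ind_fitting [Finite G] {L : Subgroup G} {y : MulAut L} (hy : y ∈ H233.B3.ind H L) {v : H}
    (hv : v ∈ fittingSubgroup H) (hyv : ∀ s : L, ((y s : L) : G) = (v : G) * s * (v : G)⁻¹) :
    (⟨y, hy⟩ : H233.B3.ind H L) ∈ fittingSubgroup (H233.B3.ind H L) := by
  -- the elements of `H` normalising `L`
  let M : Subgroup H := (normalizer (L : Set G)).subgroupOf H
  let φ : M →* H233.B3.ind H L :=
    { toFun := fun m => ⟨L.normalizerMonoidHom ⟨m.1, m.2⟩, m.1, m.1.2, fun s => rfl⟩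
      map_one' := by
        apply Subtype.ext
        exact L.normalizerMonoidHom.map_one
      map_mul' := fun a b => by
        apply Subtype.ext
        exact L.normalizerMonoidHom.map_mul ⟨a.1, a.2⟩ ⟨b.1, b.2⟩ }
  have hnorm : ∀ (z : MulAut L) (g : G), (∀ s : L, ((z s : L) : G) = g * s * g⁻¹) → g ∈ normalizer (L : Set G) := by
    intro z g hz
    rw [mem_normalizer_iff]
    intro s
    constructor
    · intro hs
      rw [← hz ⟨s, hs⟩]
      exact (z ⟨s, hs⟩).2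
    · intro hs
      have h1 := hz (z⁻¹ ⟨_, hs⟩)
      rw [MulAut.apply_inv_self] at h1
      have h2 : s = (z⁻¹ ⟨_, hs⟩ : L) := mul_left_cancel (mul_right_cancel h1)
      rw [h2]
      exact (z⁻¹ ⟨_, hs⟩).2
  have hφ : Function.Surjective φ := by
    rintro ⟨z, g, hg, hz⟩
    refine ⟨⟨⟨g, hg⟩, hnorm z g hz⟩, ?_⟩
    apply Subtype.ext
    ext s
    exact (hz s).symm
  have hFn : (fittingSubgroup H).Normal := Lib.Cores.fittingSubgroup_normal
  have hFnil : Group.IsNilpotent (fittingSubgroup H) := Lib.Cores.fittingSubgroup_isNilpotent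
  have hK : (((fittingSubgroup H).subgroupOf M).map φ).Normal := (hFn.subgroupOf M).map φ hφ
  have hKn : Group.IsNilpotent (((fittingSubgroup H).subgroupOf M).map φ) := by
    have h1 : Group.IsNilpotent ((fittingSubgroup H).subgroupOf M) := by
      let ψ : (fittingSubgroup H).subgroupOf M →* fittingSubgroup H :=
        { toFun := fun w => ⟨w.1.1, w.2⟩
          map_one' := rfl
          map_mul' := fun _ _ => rfl }
      have hψ : Function.Injective ψ := fun a b hab =>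
        Subtype.ext (Subtype.ext (congrArg (fun w : fittingSubgroup H => (w : H)) hab))
      exact Subgroup.isNilpotent_of_ker_le_center ψ (by rw [(MonoidHom.ker_eq_bot_iff ψ).2 hψ]; exact bot_le)
    exact Group.nilpotent_of_surjective (φ.subgroupMap _) (φ.subgroupMap_surjective _)
  apply Lib.Cores.le_fittingSubgroup hK hKn
  refine ⟨⟨v, hnorm y v hyv⟩, hv, ?_⟩
  apply Subtype.ext
  ext s
  exact (hyv s).symm

/-- **Gluing, the case `FitReg`.** -/
theorem Setup.five_of_fitReg [Finite G] [Finite ι] (h : Setup H T i₀ t) (hH : Group.IsSolvable H)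
    (hfix : ∀ v : H, v ∈ fittingSubgroup H → ∀ i : ι, v • i = i)
    (hF : FitReg (InnG (T i₀)) (H233.B3.ind H (T i₀))) : Five ⊤ H := by
  obtain ⟨x, ⟨a, rfl⟩, hF⟩ := hF
  obtain ⟨n, hn⟩ := h.lift fun _ => a
  have hFn : (fittingSubgroup H).Normal := Lib.Cores.fittingSubgroup_normal
  refine five_of_fitting inferInstance hH (mem_top n) fun v hv hvn => ?_
  apply Subtype.ext
  refine h.eq_one v (hfix v hv) fun i s hs => ?_
  obtain ⟨y, hy, hys⟩ := h.ind _ (h.fix v i)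
  have h1 := hn v hvn i y hys
  have h2 : (t (v • i))⁻¹ * v * t i ∈ fittingSubgroup H := by
    rw [hfix v hv i]
    simpa using hFn.conj_mem v hv (t i)⁻¹
  have h3 := hF ⟨y, hy⟩ (ind_fitting hy h2 hys) h1
  have h4 : y = 1 := congrArg Subtype.val h3
  have h5 := hys ⟨s, hs⟩
  rw [h4] at h5
  exact h5.symm

end Cfsg.Agent.SB.Red
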